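import Mathlib

set_option linter.style.haveILetI false
set_option linter.unusedVariables false
set_option linter.unusedSectionVars false
set_option autoImplicit false
set_option backward.isDefEq.respectTransparency.types false

universe u

/-! helper7: helper7: F-finiteness (finite absolute Frobenius): passes to quotients, polynomial rings; holds for power series over a perfect field -/

namespace Groth.Agent.Helper7.FFin

variable (p : ℕ) [Fact p.Prime]

/-- the ring `B` as a module over itself through the Frobenius -/
noncomputable abbrev fmod (B : Type*) [CommRing B] [CharP B p] : Module B B :=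
  (frobenius B p).toAlgebra.toModule

section Defs

variable (B : Type*) [CommRing B] [CharP B p]

theorem finite_iff : (frobenius B p).Finite ↔ @Module.Finite B B _ _ (fmod p B) := Iff.rfl

/-- the Frobenius span of a set -/
noncomputable abbrev fspan (S : Set B) : @Submodule B B _ _ (fmod p B) :=
  @Submodule.span B B _ _ (fmod p B) S

variable {B}

theorem smul_mem_fspan (S : Set B) (c x : B) (hx : x ∈ fspan p B S) : c ^ p * x ∈ fspan p B S :=
  @Submodule.smul_mem B B _ _ (fmod p B) (fspan p B S) x c hx

theorem subset_fspan (S : Set B) {x : B} (hx : x ∈ S) : x ∈ fspan p B S :=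
  @Submodule.subset_span B B _ _ (fmod p B) S x hx

theorem add_mem_fspan (S : Set B) {x y : B} (hx : x ∈ fspan p B S) (hy : y ∈ fspan p B S) :
    x + y ∈ fspan p B S :=
  @Submodule.add_mem B B _ _ (fmod p B) (fspan p B S) x y hx hy

theorem zero_mem_fspan (S : Set B) : (0 : B) ∈ fspan p B S :=
  @Submodule.zero_mem B B _ _ (fmod p B) (fspan p B S)

theorem fspan_induction (S : Set B) (P : B → Prop) (hmem : ∀ x ∈ S, P x) (h0 : P 0)
    (hadd : ∀ x y, P x → P y → P (x + y)) (hsmul : ∀ c x, P x → P (c ^ p * x))
    {x : B} (hx : x ∈ fspan p B S) : P x := by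
  refine @Submodule.span_induction B B _ _ (fmod p B) S (fun x _ => P x) ?_ h0 ?_ ?_ x hx
  · exact fun x h => hmem x h
  · exact fun x y _ _ hx hy => hadd x y hx hy
  · exact fun c x _ hx => hsmul c x hx

theorem finite_of_fspan_eq_top (S : Set B) (hS : S.Finite) (h : ∀ x : B, x ∈ fspan p B S) :
    (frobenius B p).Finite := by
  rw [finite_iff]
  refine @Module.Finite.of_fg_top B B _ _ (fmod p B) ⟨hS.toFinset, ?_⟩
  refine (@Submodule.eq_top_iff' B B _ _ (fmod p B) _).mpr (fun x => ?_)
  have := h x
  rwa [← Set.Finite.coe_toFinset hS] at this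

theorem exists_fspan_eq_top (hB : (frobenius B p).Finite) :
    ∃ S : Set B, S.Finite ∧ ∀ x : B, x ∈ fspan p B S := by
  rw [finite_iff] at hB
  obtain ⟨G, hG⟩ := @Module.Finite.fg_top B B _ _ (fmod p B) hB
  refine ⟨(G : Set B), G.finite_toSet, ?_⟩
  intro x
  change x ∈ @Submodule.span B B _ _ (fmod p B) (G : Set B)
  rw [hG]
  trivial

end Defs

section Surj

variable {B A : Type*} [CommRing B] [CommRing A] [CharP B p] [CharP A p]

theorem finite_of_surjective (φ : B →+* A) (hφ : Function.Surjective φ)
    (hB : (frobenius B p).Finite) : (frobenius A p).Finite := by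
  have h1 : (frobenius A p).comp φ = φ.comp (frobenius B p) :=
    RingHom.ext fun x => (RingHom.map_frobenius φ p x).symm
  have h2 : (φ.comp (frobenius B p)).Finite := (RingHom.Finite.of_surjective φ hφ).comp hB
  rw [← h1] at h2
  exact RingHom.Finite.of_comp_finite h2

end Surj

section Poly

variable {B : Type*} [CommRing B] [CharP B p]

open Polynomial in
theorem finite_polynomial (hB : (frobenius B p).Finite) : (frobenius (Polynomial B) p).Finite := by
  classical
  obtain ⟨G, hGfin, hG⟩ := exists_fspan_eq_top p hB
  have hp0 : 0 < p := (Fact.out : p.Prime).pos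
  let G' : Set (Polynomial B) :=
    (fun bi : B × ℕ => C bi.1 * X ^ bi.2) '' (G ×ˢ (Finset.range p : Set ℕ))
  have hfin : G'.Finite := (Set.Finite.prod hGfin (Finset.range p).finite_toSet).image _
  apply finite_of_fspan_eq_top p G' hfin
  -- monomials
  have hmon : ∀ (a : B), ∀ m i : ℕ, i < p →
      monomial (p * m + i) a ∈ fspan p (Polynomial B) G' := by
    intro a
    refine fspan_induction p G (fun a => ∀ m i : ℕ, i < p →
      monomial (p * m + i) a ∈ fspan p (Polynomial B) G') ?_ ?_ ?_ ?_ (hG a)
    · intro b hb m i hi
      have hmem : (C b * X ^ i : Polynomial B) ∈ G' :=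
        ⟨(b, i), ⟨hb, by simpa using hi⟩, rfl⟩
      have h1 := smul_mem_fspan p G' (X ^ m : Polynomial B) _ (subset_fspan p G' hmem)
      have h2 : monomial (p * m + i) b = (X ^ m : Polynomial B) ^ p * (C b * X ^ i) := by
        rw [← C_mul_X_pow_eq_monomial]
        ring
      rw [h2]
      exact h1
    · intro m i hi
      rw [map_zero]
      exact zero_mem_fspan p G'
    · intro a a' iha iha' m i hi
      rw [map_add]
      exact add_mem_fspan p G' (iha m i hi) (iha' m i hi)
    · intro c a iha m i hi
      have h1 := smul_mem_fspan p G' (C c : Polynomial B) _ (iha m i hi)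
      have h2 : monomial (p * m + i) (c ^ p * a) = (C c : Polynomial B) ^ p * monomial (p * m + i) a := by
        rw [← C_pow, C_mul_monomial]
      rw [h2]
      exact h1
  intro f
  induction f using Polynomial.induction_on' with
  | add f g hf hg => exact add_mem_fspan p G' hf hg
  | monomial n a =>
    have := hmon a (n / p) (n % p) (Nat.mod_lt _ hp0)
    rwa [Nat.div_add_mod] at this

end Poly

section MvPoly

variable {B : Type*} [CommRing B] [CharP B p]

theorem finite_mvPolynomial_fin (hB : (frobenius B p).Finite) (n : ℕ) :
    (frobenius (MvPolynomial (Fin n) B) p).Finite := by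
  induction n with
  | zero =>
    exact finite_of_surjective p (MvPolynomial.C : B →+* MvPolynomial (Fin 0) B)
      (MvPolynomial.C_surjective (Fin 0)) hB
  | succ n ih =>
    have h1 := finite_polynomial p ih
    exact finite_of_surjective p
      ((MvPolynomial.finSuccEquiv B n).symm : Polynomial (MvPolynomial (Fin n) B) →+*
        MvPolynomial (Fin (n + 1)) B)
      (MvPolynomial.finSuccEquiv B n).symm.surjective h1

end MvPoly

section PowerSeries

variable {k : Type*} [Field k] [CharP k p] [PerfectRing k p]

theorem powerSeries_pow_coeff (g : PowerSeries k) (n : ℕ) :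
    PowerSeries.coeff n (g ^ p) = if p ∣ n then (PowerSeries.coeff (n / p) g) ^ p else 0 := by
  haveI : ExpChar k p := ExpChar.prime (Fact.out : p.Prime)
  have hp0 : p ≠ 0 := (Fact.out : p.Prime).ne_zero
  have h := MvPowerSeries.map_frobenius_expand (σ := Unit) p hp0 (f := g)
  have h' : PowerSeries.map (frobenius k p) (PowerSeries.expand p hp0 g) = g ^ p := h
  rw [← h', PowerSeries.coeff_map, PowerSeries.coeff_expand]
  split_ifs
  · rfl
  · exact map_zero _

theorem charP_powerSeries : CharP (PowerSeries k) p :=
  charP_of_injective_algebraMap (R := k) (A := PowerSeries k) (RingHom.injective _) p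

theorem finite_powerSeries [CharP (PowerSeries k) p] : (frobenius (PowerSeries k) p).Finite := by
  classical
  have hp0 : 0 < p := (Fact.out : p.Prime).pos
  let G : Set (PowerSeries k) := (fun i : ℕ => (PowerSeries.X : PowerSeries k) ^ i) '' (Finset.range p : Set ℕ)
  have hfin : G.Finite := (Finset.range p).finite_toSet.image _
  apply finite_of_fspan_eq_top p G hfin
  intro f
  let g : ℕ → PowerSeries k := fun i =>
    PowerSeries.mk (fun m => (frobeniusEquiv k p).symm (PowerSeries.coeff (p * m + i) f))
  have hf : f = ∑ i ∈ Finset.range p, (g i) ^ p * PowerSeries.X ^ i := by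
    ext n
    rw [map_sum, Finset.sum_eq_single (n % p)]
    · rw [PowerSeries.coeff_mul_X_pow', if_pos (Nat.mod_le n p), powerSeries_pow_coeff,
        if_pos (Nat.dvd_sub_mod n)]
      simp only [g, PowerSeries.coeff_mk]
      rw [frobeniusEquiv_symm_pow_p]
      congr 1
      have h1 : (n - n % p) / p = n / p := by
        have : n - n % p = p * (n / p) := by
          have := Nat.div_add_mod n p
          omega
        rw [this, Nat.mul_div_cancel_left _ hp0]
      rw [h1, Nat.div_add_mod]
    · intro i hi hne
      rw [PowerSeries.coeff_mul_X_pow']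
      split_ifs with h1
      · rw [powerSeries_pow_coeff, if_neg]
        intro hdvd
        apply hne
        have hip : i < p := Finset.mem_range.mp hi
        have h2 : (n - i) % p = 0 := Nat.mod_eq_zero_of_dvd hdvd
        have h3 : n = (n - i) + i := by omega
        have h4 : n % p = i := by
          rw [h3, Nat.add_mod, h2, zero_add, Nat.mod_mod, Nat.mod_eq_of_lt hip]
        exact h4.symm
      · rfl
    · intro h
      exact absurd (Finset.mem_range.mpr (Nat.mod_lt n hp0)) h
  rw [hf]
  refine Finset.sum_induction _ (fun x => x ∈ fspan p (PowerSeries k) G)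
    (fun a b ha hb => add_mem_fspan p G ha hb) (zero_mem_fspan p G) ?_
  intro i hi
  exact smul_mem_fspan p G (g i) _ (subset_fspan p G ⟨i, hi, rfl⟩)

end PowerSeries

end Groth.Agent.Helper7.FFin
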